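import Mathlib.Algebra.Category.ModuleCat.Sheaf.PushforwardContinuous
import Mathlib.Algebra.Category.ModuleCat.Presheaf.Sheafification
import Mathlib.Algebra.Category.ModuleCat.Sheaf.Limits
import Mathlib.CategoryTheory.Preadditive.Injective.Basic
import Mathlib.Topology.Category.TopCat.Opens
import Mathlib.CategoryTheory.Sites.Spaces
import Mathlib

/-!
# Injective sheaves of modules on a space restrict to injective sheaves on opens
-/

set_option autoImplicit false

universe u

open CategoryTheory CategoryTheory.Limits Opposite TopologicalSpace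

namespace Groth.Agent.ModOverInj

open scoped Classical

variable {X : TopCat.{u}} {A : Sheaf (Opens.grothendieckTopology X) RingCat.{u}} {U : Opens X}

theorem map_self {C : Type*} [Category C] {R : Cᵒᵖ ⥤ RingCat.{u}} (M : PresheafOfModules.{u} R) {Y : Cᵒᵖ}
    (f : Y ⟶ Y) (hf : f = 𝟙 Y) (x : M.obj Y) : (M.map f x : M.obj Y) = x := by
  subst hf
  exact LinearMap.congr_fun (congrArg ModuleCat.Hom.hom (M.map_id Y)) x

/-- An open below `U`, as an object over `U`. -/
abbrev ob {V : Opens X} (h : V ≤ U) : (Over U)ᵒᵖ := op (Over.mk (homOfLE h))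

noncomputable instance (P : PresheafOfModules.{u} (A.over U).obj) {V : Opens X} (h : V ≤ U) :
    Module (A.obj.obj (op V)) (P.obj (ob h)) := (P.obj (ob h)).isModule

/-- The inclusion between opens below `U`. -/
abbrev inc {V W : Opens X} (i : W ≤ V) (hW : W ≤ U) (hV : V ≤ U) : ob hV ⟶ ob hW :=
  (Over.homMk (homOfLE i) (Subsingleton.elim _ _) : Over.mk (homOfLE hW) ⟶ Over.mk (homOfLE hV)).op

theorem map_inc_smul (P : PresheafOfModules.{u} (A.over U).obj) {V W : Opens X} (i : W ≤ V) (hW : W ≤ U)
    (hV : V ≤ U) (r : A.obj.obj (op V)) (x : P.obj (ob hV)) :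
    (P.map (inc i hW hV) (r • x) : P.obj (ob hW)) =
      HSMul.hSMul (β := P.obj (ob hW)) (A.obj.map (homOfLE i).op r) (P.map (inc i hW hV) x) :=
  P.map_smul (inc i hW hV) r x

/-- Sections of the extension by zero. -/
abbrev ExtSec (P : PresheafOfModules.{u} (A.over U).obj) (V : Opens X) : Type u :=
  ∀ h : PLift (V ≤ U), P.obj (ob h.down)

/-- Restriction of sections of the extension by zero. -/
noncomputable def extRes (P : PresheafOfModules.{u} (A.over U).obj) {V W : Opens X} (i : W ≤ V) :
    ExtSec P V →+ ExtSec P W where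
  toFun s h := if hV : V ≤ U then P.map (inc i h.down hV) (s ⟨hV⟩) else 0
  map_zero' := funext fun h => by
    by_cases hV : V ≤ U
    · simp only [dif_pos hV]; exact map_zero (P.map (inc i h.down hV)).hom
    · simp only [dif_neg hV]; rfl
  map_add' s t := funext fun h => by
    by_cases hV : V ≤ U
    · simp only [dif_pos hV, Pi.add_apply]; exact map_add (P.map (inc i h.down hV)).hom _ _
    · simp only [dif_neg hV, Pi.add_apply]; exact (add_zero _).symm

theorem extRes_pos (P : PresheafOfModules.{u} (A.over U).obj) {V W : Opens X} (i : W ≤ V) (hV : V ≤ U)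
    (s : ExtSec P V) (h : PLift (W ≤ U)) : extRes P i s h = P.map (inc i h.down hV) (s ⟨hV⟩) :=
  dif_pos hV

theorem extRes_neg (P : PresheafOfModules.{u} (A.over U).obj) {V W : Opens X} (i : W ≤ V) (hV : ¬ V ≤ U)
    (s : ExtSec P V) (h : PLift (W ≤ U)) : extRes P i s h = 0 :=
  dif_neg hV

theorem extRes_smul (P : PresheafOfModules.{u} (A.over U).obj) {V W : Opens X} (i : W ≤ V)
    (r : A.obj.obj (op V)) (s : ExtSec P V) :
    extRes P i (r • s) = A.obj.map (homOfLE i).op r • extRes P i s := by
  funext h
  by_cases hV : V ≤ U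
  · rw [Pi.smul_apply, extRes_pos P i hV, extRes_pos P i hV, Pi.smul_apply]
    exact map_inc_smul P i h.down hV r (s ⟨hV⟩)
  · rw [Pi.smul_apply, extRes_neg P i hV, extRes_neg P i hV, smul_zero]

theorem extRes_comp (P : PresheafOfModules.{u} (A.over U).obj) {V W Z : Opens X} (i : W ≤ V) (j : Z ≤ W)
    (s : ExtSec P V) : extRes P (j.trans i) s = extRes P j (extRes P i s) := by
  funext h
  by_cases hV : V ≤ U
  · rw [extRes_pos P _ hV, extRes_pos P j (i.trans hV), extRes_pos P i hV]
    exact (PresheafOfModules.congr_map_apply _ (Subsingleton.elim _ _) _).trans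
      (PresheafOfModules.map_comp_apply _ (inc i (i.trans hV) hV) (inc j h.down (i.trans hV)) _)
  · rw [extRes_neg P _ hV]
    by_cases hW : W ≤ U
    · rw [extRes_pos P j hW, extRes_neg P i hV]
      exact (map_zero (P.map (inc j h.down hW)).hom).symm
    · rw [extRes_neg P j hW]

theorem extRes_id (P : PresheafOfModules.{u} (A.over U).obj) {V : Opens X} (s : ExtSec P V) :
    extRes P (le_refl V) s = s := by
  funext h
  rw [extRes_pos P _ h.down]
  exact map_self P _ (Subsingleton.elim _ _) (s h)

/-- Extension by zero of a presheaf of modules from an open. -/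
noncomputable def ext (P : PresheafOfModules.{u} (A.over U).obj) : PresheafOfModules.{u} A.obj where
  obj V := ModuleCat.of (A.obj.obj V) (ExtSec P V.unop)
  map {V W} f := ModuleCat.ofHom (Y := (ModuleCat.restrictScalars (A.obj.map f).hom).obj
      (ModuleCat.of (A.obj.obj W) (ExtSec P W.unop)))
    { toFun := fun s => extRes P (leOfHom f.unop) s
      map_add' := (extRes P (leOfHom f.unop)).map_add
      map_smul' := fun r s => extRes_smul P (leOfHom f.unop) r s }
  map_id V := ModuleCat.hom_ext (LinearMap.ext fun (s : ExtSec P V.unop) => extRes_id P s)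
  map_comp {V W Z} f g := ModuleCat.hom_ext (LinearMap.ext fun (s : ExtSec P V.unop) =>
    extRes_comp P (leOfHom f.unop) (leOfHom g.unop) s)

/-- Functoriality of the extension by zero. -/
noncomputable def extMap {P Q : PresheafOfModules.{u} (A.over U).obj} (φ : P ⟶ Q) : ext P ⟶ ext Q where
  app V := ModuleCat.ofHom (X := ExtSec P V.unop) (Y := ExtSec Q V.unop)
    { toFun := fun s h => φ.app _ (s h)
      map_add' := fun s t => funext fun h => map_add (φ.app _).hom _ _
      map_smul' := fun r s => funext fun h => map_smul (φ.app _).hom _ _ }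
  naturality {V W} f := by
    refine ModuleCat.hom_ext (LinearMap.ext fun (s : ExtSec P V.unop) => funext fun h => ?_)
    show φ.app _ (extRes P (leOfHom f.unop) s h) = extRes Q (leOfHom f.unop) (fun h => φ.app _ (s h)) h
    by_cases hV : V.unop ≤ U
    · rw [extRes_pos P _ hV, extRes_pos Q _ hV]
      exact PresheafOfModules.naturality_apply φ _ _
    · rw [extRes_neg P _ hV, extRes_neg Q _ hV]
      exact map_zero (φ.app _).hom

/-- The component of a map into a restriction. -/
noncomputable def descApp {P : PresheafOfModules.{u} (A.over U).obj} (I : SheafOfModules.{u} A)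
    (φ : P ⟶ (I.over U).val) {V : Opens X} (hV : V ≤ U) :
    P.obj (ob hV) →ₗ[A.obj.obj (op V)] I.val.obj (op V) :=
  (φ.app (ob hV)).hom

/-- The adjoint of a map into a restriction. -/
noncomputable def extDesc {P : PresheafOfModules.{u} (A.over U).obj} (I : SheafOfModules.{u} A)
    (φ : P ⟶ (I.over U).val) : ext P ⟶ I.val where
  app V := ModuleCat.ofHom (X := ExtSec P V.unop) (Y := I.val.obj V)
    { toFun := fun s => if hV : V.unop ≤ U then descApp I φ hV (s ⟨hV⟩) else 0
      map_add' := fun s t => by
        by_cases hV : V.unop ≤ U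
        · simp only [dif_pos hV, Pi.add_apply, map_add]
        · simp only [dif_neg hV, add_zero]
      map_smul' := fun r s => by
        by_cases hV : V.unop ≤ U
        · simp only [dif_pos hV, Pi.smul_apply, RingHom.id_apply, map_smul]
        · simp only [dif_neg hV]; exact (smul_zero r).symm }
  naturality {V W} f := by
    refine ModuleCat.hom_ext (LinearMap.ext fun (s : ExtSec P V.unop) => ?_)
    show (if hW : W.unop ≤ U then descApp I φ hW (extRes P (leOfHom f.unop) s ⟨hW⟩) else 0) =
      I.val.map f (if hV : V.unop ≤ U then descApp I φ hV (s ⟨hV⟩) else 0)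
    by_cases hV : V.unop ≤ U
    · rw [dif_pos hV, dif_pos ((leOfHom f.unop).trans hV), extRes_pos P _ hV]
      exact PresheafOfModules.naturality_apply φ (inc (leOfHom f.unop) ((leOfHom f.unop).trans hV) hV) _
    · rw [dif_neg hV]
      by_cases hW : W.unop ≤ U
      · rw [dif_pos hW, extRes_neg P _ hV, map_zero]
        exact (map_zero (I.val.map f).hom).symm
      · rw [dif_neg hW]
        exact (map_zero (I.val.map f).hom).symm

/-- The identification of an open over `U` with its open. -/
abbrev bk (V : (Over U)ᵒᵖ) {h : V.unop.left ≤ U} : V ⟶ ob h :=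
  (Over.homMk (𝟙 _) (Subsingleton.elim _ _) : Over.mk (homOfLE h) ⟶ V.unop).op

theorem map_bk_smul (Q : PresheafOfModules.{u} (A.over U).obj) (V : (Over U)ᵒᵖ) (h : V.unop.left ≤ U)
    (r : (A.over U).obj.obj V) (q : Q.obj V) :
    (Q.map (bk V (h := h)) (r • q) : Q.obj (ob h)) =
      HSMul.hSMul (α := A.obj.obj (op V.unop.left)) (β := Q.obj (ob h)) r (Q.map (bk V (h := h)) q) := by
  refine (Q.map_smul _ r q).trans ?_
  exact congrArg (fun r' => HSMul.hSMul (α := A.obj.obj (op V.unop.left)) (β := Q.obj (ob h)) r' (Q.map (bk V (h := h)) q))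
    (ConcreteCategory.congr_hom (A.obj.map_id (op V.unop.left)) r)

/-- A section on an open over `U`, as a section of the extension by zero. -/
noncomputable def toExtSec (Q : PresheafOfModules.{u} (A.over U).obj) (V : (Over U)ᵒᵖ) (q : Q.obj V) :
    ExtSec Q V.unop.left :=
  fun h => Q.map (bk V (h := h.down)) q

theorem toExtSec_smul (Q : PresheafOfModules.{u} (A.over U).obj) (V : (Over U)ᵒᵖ) (r : (A.over U).obj.obj V)
    (q : Q.obj V) : toExtSec Q V (r • q) =
      HSMul.hSMul (α := A.obj.obj (op V.unop.left)) r (toExtSec Q V q) :=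
  funext fun h => map_bk_smul Q V h.down r q

theorem toExtSec_map (Q : PresheafOfModules.{u} (A.over U).obj) {V W : (Over U)ᵒᵖ} (f : V ⟶ W) (q : Q.obj V) :
    toExtSec Q W (Q.map f q) = extRes Q (leOfHom f.unop.left) (toExtSec Q V q) := by
  funext h
  rw [extRes_pos Q _ (leOfHom V.unop.hom)]
  refine (PresheafOfModules.map_comp_apply Q f (bk W (h := h.down)) q).symm.trans ?_
  exact (PresheafOfModules.congr_map_apply Q (Subsingleton.elim _ (bk V ≫ inc _ _ _)) q).trans
    (PresheafOfModules.map_comp_apply Q (bk V (h := leOfHom V.unop.hom))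
      (inc (leOfHom f.unop.left) h.down (leOfHom V.unop.hom)) q)

theorem mono_extMap {P Q : PresheafOfModules.{u} (A.over U).obj} (φ : P ⟶ Q) [Mono φ] : Mono (extMap φ) := by
  refine PresheafOfModules.mono_of_injective fun {V} s t hst => funext fun h => ?_
  exact PresheafOfModules.injective_of_mono φ _ (congrFun hst h)

/-- An injective sheaf of modules restricts to an injective sheaf of modules on an open. -/
theorem injective_over (I : SheafOfModules.{u} A) [Injective I] (U : Opens X) : Injective (I.over U) := by
  haveI : Injective I.val :=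
    Injective.injective_of_adjoint (PresheafOfModules.sheafificationAdjunction (𝟙 A.obj)) I
  refine ⟨fun {P Q} g a _ => ?_⟩
  haveI : Mono a.val := (SheafOfModules.forget _).map_mono a
  haveI := mono_extMap a.val
  obtain ⟨l, hl⟩ := (inferInstance : Injective I.val).factors (extDesc I g.val) (extMap a.val)
  let l' : Q.val ⟶ (I.over U).val :=
    { app := fun V => ModuleCat.ofHom (X := Q.val.obj V) (Y := (I.over U).val.obj V)
        { toFun := fun q => l.app (op V.unop.left) (toExtSec Q.val V q)
          map_add' := fun q q' => (congrArg (l.app _) (funext fun h => map_add (Q.val.map _).hom q q')).trans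
            (map_add (l.app _).hom _ _)
          map_smul' := fun r q => (congrArg (l.app _) (toExtSec_smul Q.val V r q)).trans
            (LinearMap.map_smul (l.app (op V.unop.left)).hom (r : A.obj.obj (op V.unop.left)) (toExtSec Q.val V q)) }
      naturality := fun {V W} f => by
        refine ModuleCat.hom_ext (LinearMap.ext fun q => ?_)
        exact (congrArg (l.app _) (toExtSec_map Q.val f q)).trans
          (PresheafOfModules.naturality_apply l f.unop.left.op (toExtSec Q.val V q)) }
  refine ⟨⟨l'⟩, ?_⟩
  apply SheafOfModules.Hom.ext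
  refine PresheafOfModules.hom_ext fun V => ModuleCat.hom_ext (LinearMap.ext fun p => ?_)
  show l.app (op V.unop.left) _ = g.val.app V p
  have h2 := LinearMap.congr_fun (congrArg (fun ψ => ModuleCat.Hom.hom (PresheafOfModules.Hom.app ψ (op V.unop.left))) hl)
    (fun h => P.val.map (Over.homMk (𝟙 _) (Subsingleton.elim _ _) : Over.mk (homOfLE h.down) ⟶ V.unop).op p)
  refine (congrArg (l.app _) (funext fun h => (PresheafOfModules.naturality_apply a.val _ p).symm)).trans (h2.trans ?_)
  show (if hV : V.unop.left ≤ U then _ else _) = _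
  rw [dif_pos (leOfHom V.unop.hom)]
  refine (PresheafOfModules.naturality_apply g.val _ p).trans ?_
  exact map_self (I.over U).val _ (Subsingleton.elim _ _) _

end Groth.Agent.ModOverInj
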